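import Mathlib

/-! Siegel parabolic calculus in `Sp_{2m}(F)`. -/

set_option autoImplicit false
open Matrix

namespace Cfsg.Agent.SpC

variable {F : Type*} [Field F] {l : Type*} [Fintype l] [DecidableEq l]

/-- upper unipotent element -/
def U (T : Matrix l l F) (h : Tᵀ = T) : symplecticGroup l F :=
  ⟨fromBlocks 1 T 0 1, SymplecticGroup.fromBlocks_mem_iff.2 ⟨by simp, by simp [h], by simp⟩⟩

/-- lower unipotent element -/
def V (S : Matrix l l F) (h : Sᵀ = S) : symplecticGroup l F :=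
  ⟨fromBlocks 1 0 S 1, SymplecticGroup.fromBlocks_mem_iff.2 ⟨by simp [h], by simp, by simp⟩⟩

/-- Levi element -/
def D (P : (Matrix l l F)ˣ) : symplecticGroup l F :=
  ⟨fromBlocks P.1 0 0 (P⁻¹).1ᵀ, SymplecticGroup.fromBlocks_mem_iff.2 ⟨by simp, by simp, by
    rw [← transpose_mul, Units.inv_mul]; simp⟩⟩

theorem D_mul (P Q : (Matrix l l F)ˣ) : D (P * Q) = D P * D Q :=
  Subtype.ext (by
    change fromBlocks _ _ _ _ = fromBlocks _ _ _ _ * fromBlocks _ _ _ _
    rw [fromBlocks_multiply, _root_.mul_inv_rev, Units.val_mul, Units.val_mul, transpose_mul]; simp)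

theorem D_one : D (1 : (Matrix l l F)ˣ) = 1 :=
  Subtype.ext (by change fromBlocks _ _ _ _ = 1; simp)

/-- Levi embedding -/
def Dh : (Matrix l l F)ˣ →* symplecticGroup l F := ⟨⟨D, D_one⟩, D_mul⟩

/-- transpose of a unit -/
def tU (P : (Matrix l l F)ˣ) : (Matrix l l F)ˣ :=
  ⟨P.1ᵀ, (P⁻¹).1ᵀ, by rw [← transpose_mul, Units.inv_mul, transpose_one],
    by rw [← transpose_mul, Units.mul_inv, transpose_one]⟩

theorem isConj_D_inv (P : (Matrix l l F)ˣ) : IsConj (D (tU P)) (D P⁻¹) := by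
  refine isConj_iff.2 ⟨SymplecticGroup.symJ l F, ?_⟩
  rw [mul_inv_eq_iff_eq_mul]
  refine Subtype.ext ?_
  change J l F * fromBlocks P.1ᵀ 0 0 (P⁻¹).1ᵀᵀ = fromBlocks (P⁻¹).1 0 0 (P⁻¹⁻¹).1ᵀ * J l F
  rw [J, fromBlocks_multiply, fromBlocks_multiply]; simp

theorem isConj_D {P Q : (Matrix l l F)ˣ} (h : IsConj P Q) : IsConj (D P) (D Q) := Dh.map_isConj h

/-- no product of two eigenvalues is `1` -/
def Fpf (P : Matrix l l F) : Prop := ∀ T : Matrix l l F, P * T * Pᵀ = T → T = 0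

theorem Fpf.solve [Finite F] {P : Matrix l l F} (h : Fpf P) {R : Matrix l l F} (hR : Rᵀ = R) :
    ∃ T : Matrix l l F, Tᵀ = T ∧ T - P * T * Pᵀ = R := by
  have hi : Function.Injective (fun T : Matrix l l F => T - P * T * Pᵀ) := fun T T' e => by
    refine sub_eq_zero.1 (h _ ?_)
    rw [mul_sub, sub_mul]
    simp only at e
    rw [sub_eq_sub_iff_sub_eq_sub] at e
    exact e.symm
  obtain ⟨T, hT⟩ := Finite.injective_iff_surjective.1 hi R
  refine ⟨T, hi ?_, hT⟩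
  simp only at hT ⊢
  rw [hT, ← hR, ← hT, transpose_sub, transpose_mul, transpose_mul, transpose_transpose, mul_assoc]

theorem isConj_DU [Finite F] {P : (Matrix l l F)ˣ} (h : Fpf P.1) (R : Matrix l l F) (hR : Rᵀ = R) :
    IsConj (D P) (D P * U R hR) := by
  obtain ⟨T, hT, e⟩ := h.solve (R := P.1 * R * P.1ᵀ)
    (by rw [transpose_mul, transpose_mul, transpose_transpose, hR, mul_assoc])
  refine isConj_iff.2 ⟨U T hT, ?_⟩
  rw [mul_inv_eq_iff_eq_mul]
  refine Subtype.ext ?_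
  change fromBlocks _ _ _ _ * fromBlocks _ _ _ _ = fromBlocks _ _ _ _ * fromBlocks _ _ _ _ * fromBlocks _ _ _ _
  have e2 : T * (P⁻¹).1ᵀ = P.1 * T + P.1 * R := by
    have h1 : P.1ᵀ * (P⁻¹).1ᵀ = 1 := (tU P).mul_inv
    have : T = (P.1 * T + P.1 * R) * P.1ᵀ := by rw [add_mul, ← e]; abel
    conv_lhs => rw [this, mul_assoc, h1, mul_one]
  rw [fromBlocks_multiply, fromBlocks_multiply, fromBlocks_multiply]
  simp only [Matrix.mul_zero, Matrix.zero_mul, add_zero, zero_add, Matrix.mul_one, Matrix.one_mul, e2]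

theorem isConj_VD [Finite F] {P : (Matrix l l F)ˣ} (h : Fpf P.1ᵀ) (R : Matrix l l F) (hR : Rᵀ = R) :
    IsConj (D P) (V R hR * D P) := by
  obtain ⟨T, hT, e⟩ := h.solve (R := -(P.1ᵀ * R * P.1))
    (by rw [transpose_neg, transpose_mul, transpose_mul, transpose_transpose, hR, mul_assoc])
  refine isConj_iff.2 ⟨V T hT, ?_⟩
  rw [mul_inv_eq_iff_eq_mul]
  refine Subtype.ext ?_
  change fromBlocks _ _ _ _ * fromBlocks _ _ _ _ = fromBlocks _ _ _ _ * fromBlocks _ _ _ _ * fromBlocks _ _ _ _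
  have e2 : T * P.1 = R * P.1 + (P⁻¹).1ᵀ * T := by
    have h1 : (P⁻¹).1ᵀ * P.1ᵀ = 1 := (tU P).inv_mul
    rw [transpose_transpose] at e
    have : T = P.1ᵀ * (T * P.1 - R * P.1) := by
      rw [mul_sub, ← mul_assoc, ← mul_assoc, sub_eq_add_neg, ← e]; abel
    conv_rhs => rw [this, ← mul_assoc, h1, one_mul]
    abel
  rw [fromBlocks_multiply, fromBlocks_multiply, fromBlocks_multiply]
  simp only [Matrix.mul_zero, Matrix.zero_mul, add_zero, zero_add, Matrix.mul_one, Matrix.one_mul, e2]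

theorem gauss (g : symplecticGroup l F) (P : (Matrix l l F)ˣ) (h : g.1.toBlocks₁₁ = P.1) :
    ∃ S hS T hT, g = V S hS * D P * U T hT := by
  obtain ⟨g, hg⟩ := g
  rw [← fromBlocks_toBlocks g] at hg
  obtain ⟨h1, h2, h3⟩ := SymplecticGroup.fromBlocks_mem_iff.1 hg
  obtain ⟨h4, -, -⟩ := SymplecticGroup.fromBlocks_mem_iff.1
    (fromBlocks_transpose _ _ _ _ ▸ SymplecticGroup.transpose_mem hg)
  simp only at h
  set B := g.toBlocks₁₂
  set C := g.toBlocks₂₁
  set E := g.toBlocks₂₂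
  rw [h] at h1 h3 h4
  simp only [transpose_transpose] at h4
  have i1 : (P⁻¹).1ᵀ * P.1ᵀ = 1 := (tU P).inv_mul
  have i2 : P.1ᵀ * (P⁻¹).1ᵀ = 1 := (tU P).mul_inv
  have hS : (C * (P⁻¹).1)ᵀ = C * (P⁻¹).1 := by
    rw [transpose_mul, ← one_mul (C * _), ← i1, mul_assoc, ← mul_assoc P.1ᵀ, h1, mul_assoc,
      Units.mul_inv, mul_one]
  have hT : ((P⁻¹).1 * B)ᵀ = (P⁻¹).1 * B := by
    rw [transpose_mul, ← mul_one (_ * B), ← i2, ← mul_assoc, mul_assoc _ B, ← h4, ← mul_assoc,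
      Units.inv_mul, one_mul]
  refine ⟨_, hS, _, hT, Subtype.ext ?_⟩
  change g = fromBlocks _ _ _ _ * fromBlocks _ _ _ _ * fromBlocks _ _ _ _
  rw [fromBlocks_multiply, fromBlocks_multiply, ← fromBlocks_toBlocks g, h]
  simp only [Matrix.mul_zero, Matrix.zero_mul, add_zero, zero_add, Matrix.mul_one, Matrix.one_mul]
  have e1 : C * (P⁻¹).1 * P.1 = C := by rw [mul_assoc, Units.inv_mul, mul_one]
  rw [e1, ← mul_assoc, Units.mul_inv, one_mul]
  congr 1
  have : E = (P⁻¹).1ᵀ * (1 + Cᵀ * B) := by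
    rw [← h3, sub_add_cancel, ← mul_assoc, i1, one_mul]
  change E = C * ((P⁻¹).1 * B) + _
  rw [this, mul_add, mul_one, ← mul_assoc, ← transpose_mul, hS, mul_assoc, add_comm]

/-- The factorisation lemma. -/
theorem fact [Finite F] (g : symplecticGroup l F) {P Q : (Matrix l l F)ˣ} (hP : Fpf P.1ᵀ) (hQ : Fpf Q.1)
    (h : g.1.toBlocks₁₁ = P.1 * Q.1) : ∃ y z, IsConj (D P) y ∧ IsConj (D Q) z ∧ g = y * z := by
  obtain ⟨S, hS, T, hT, e⟩ := gauss g (P * Q) h
  exact ⟨_, _, isConj_VD hP S hS, isConj_DU hQ T hT, by rw [e, D_mul]; simp only [mul_assoc]⟩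

theorem U_inv (T : Matrix l l F) (h : Tᵀ = T) : (U T h)⁻¹ = U (-T) (by simp [h]) := by
  rw [inv_eq_iff_mul_eq_one]
  refine Subtype.ext ?_
  change fromBlocks _ _ _ _ * fromBlocks _ _ _ _ = 1
  rw [fromBlocks_multiply]; simp

theorem V_inv (T : Matrix l l F) (h : Tᵀ = T) : (V T h)⁻¹ = V (-T) (by simp [h]) := by
  rw [inv_eq_iff_mul_eq_one]
  refine Subtype.ext ?_
  change fromBlocks _ _ _ _ * fromBlocks _ _ _ _ = 1
  rw [fromBlocks_multiply]; simp

theorem conj_U (g : symplecticGroup l F) (T : Matrix l l F) (h : Tᵀ = T) :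
    (U T h * g * (U T h)⁻¹).1.toBlocks₁₁ = g.1.toBlocks₁₁ + T * g.1.toBlocks₂₁ := by
  rw [U_inv]
  change (fromBlocks _ _ _ _ * g.1 * fromBlocks _ _ _ _).toBlocks₁₁ = _
  conv_lhs => rw [← fromBlocks_toBlocks g.1, fromBlocks_multiply, fromBlocks_multiply]
  simp

theorem central_of (g : symplecticGroup l F) (h : ∀ c : symplecticGroup l F, (c * g * c⁻¹).1.toBlocks₂₁ = 0) :
    ∃ a : F, g.1 = a • 1 := by
  have hC : g.1.toBlocks₂₁ = 0 := by simpa using h 1
  have hB : g.1.toBlocks₁₂ = 0 := by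
    have := h (SymplecticGroup.symJ l F)
    have e : (SymplecticGroup.symJ l F)⁻¹.1 = fromBlocks 0 1 (-1) 0 := by
      rw [SymplecticGroup.coe_inv', SymplecticGroup.coe_J, J_inv, J, fromBlocks_neg]; simp
    change (J l F * g.1 * (SymplecticGroup.symJ l F)⁻¹.1).toBlocks₂₁ = _ at this
    rw [e, J, ← fromBlocks_toBlocks g.1, fromBlocks_multiply, fromBlocks_multiply] at this
    simpa using this
  have hS : ∀ S : Matrix l l F, Sᵀ = S → S * g.1.toBlocks₁₁ = g.1.toBlocks₂₂ * S := fun S hS => by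
    have := h (V S hS)
    rw [V_inv] at this
    change (fromBlocks _ _ _ _ * g.1 * fromBlocks _ _ _ _).toBlocks₂₁ = _ at this
    rw [← fromBlocks_toBlocks g.1, fromBlocks_multiply, fromBlocks_multiply, hC, hB] at this
    simpa [add_neg_eq_zero] using this
  have hE : g.1.toBlocks₂₂ = g.1.toBlocks₁₁ := by simpa using (hS 1 (by simp)).symm
  rw [hE] at hS
  set A := g.1.toBlocks₁₁
  have hd : ∀ i j, i ≠ j → A i j = 0 := fun i j hij => by
    have := congrFun (congrFun (hS (single i i 1) (by simp)) i) j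
    simpa [hij.symm] using this
  have hA : ∃ a : F, A = a • 1 := by
    rcases isEmpty_or_nonempty l with hl | ⟨⟨i⟩⟩
    · exact ⟨1, Subsingleton.elim _ _⟩
    refine ⟨A i i, Matrix.ext fun j k => ?_⟩
    by_cases hjk : j = k
    · subst hjk
      by_cases hij : i = j
      · simp [hij]
      have := congrFun (congrFun (hS (single i j 1 + single j i 1) (by simp [add_comm])) i) j
      simpa [add_mul, mul_add, hij, Ne.symm hij] using this
    · simp [hd j k hjk, hjk]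
  obtain ⟨a, ha⟩ := hA
  refine ⟨a, ?_⟩
  rw [← fromBlocks_toBlocks g.1, hB, hC, hE, ← fromBlocks_one, fromBlocks_smul]
  simp [ha, A]

end Cfsg.Agent.SpC
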