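import Cfsg.Agent.SpC.Two

/-! Thompson's class square for `Sp₄(q)`: the main statement. -/

set_option autoImplicit false
open Matrix

namespace Cfsg.Agent.SpC

variable {F : Type*} [Field F]

local notation "M2" => Matrix (Fin 2) (Fin 2) F

/-- a matrix with non-zero determinant as a unit -/
noncomputable def un {l : Type*} [Fintype l] [DecidableEq l] (Y : Matrix l l F) (h : Y.det ≠ 0) :
    (Matrix l l F)ˣ := ((isUnit_iff_isUnit_det Y).2 h.isUnit).unit

@[simp] theorem un_val {l : Type*} [Fintype l] [DecidableEq l] (Y : Matrix l l F) (h : Y.det ≠ 0) :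
    (un Y h).1 = Y := id rfl

theorem nonscalar {Y : M2} (h : Y.trace ^ 2 ≠ 4 * Y.det) : ¬ ∃ a : F, Y = a • 1 := by
  rintro ⟨a, rfl⟩
  apply h
  simp [det_fin_two, trace_fin_two]; ring

theorem isConj_of {P Q : (M2)ˣ} (h : P.1.trace ^ 2 ≠ 4 * P.1.det) (h1 : Q.1.trace = P.1.trace)
    (h2 : Q.1.det = P.1.det) : IsConj (D P) (D Q) := by
  have a := sim2 (nonscalar h)
  have b := sim2 (Y := Q.1) (nonscalar (by rwa [h1, h2]))
  rw [h1, h2] at b
  obtain ⟨c, hc⟩ := a.symm.trans b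
  refine isConj_D (isConj_iff.2 ⟨c, ?_⟩)
  rw [mul_inv_eq_iff_eq_mul]
  exact Units.ext hc

theorem cp_pow (s d : F) (k : ℕ) : ∃ a b : F, cp s d ^ k = a • 1 + b • cp s d := by
  induction k with
  | zero => exact ⟨1, 0, by simp⟩
  | succ k ih =>
    obtain ⟨a, b, h⟩ := ih
    refine ⟨-(b * d), a + b * s, ?_⟩
    rw [pow_succ, h]
    ext i j; fin_cases i <;> fin_cases j <;> simp [cp, Matrix.mul_apply, Fin.sum_univ_two] <;> ring

theorem coprime_order [Finite F] (p : ℕ) [hp : Fact p.Prime] [CharP F p] {s d : F} (h : s ^ 2 ≠ 4 * d)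
    (P : (M2)ˣ) (hP : P.1 = cp s d) : ¬ p ∣ orderOf P := by
  rintro ⟨m, hm⟩
  have hpos : 0 < orderOf P := orderOf_pos P
  have h1 : (cp s d ^ m - 1) ^ p = 0 := by
    rw [sub_pow_char_of_commute _ (Commute.one_right _), ← pow_mul, mul_comm, ← hm, ← hP,
      ← Units.val_pow_eq_pow_val, pow_orderOf_eq_one]; simp
  have h2 : (cp s d ^ m - 1).trace = 0 := (isNilpotent_trace_of_isNilpotent ⟨p, h1⟩).eq_zero
  have h3 : (cp s d ^ m - 1).det = 0 := by
    have := congrArg det h1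
    rw [det_pow, det_zero] at this
    exact pow_eq_zero_iff hp.1.ne_zero |>.1 this
  obtain ⟨a, b, e⟩ := cp_pow s d m
  rw [e] at h2 h3
  simp [cp, trace_fin_two, det_fin_two] at h2 h3
  have hb : b = 0 := by
    have : b ^ 2 * (s ^ 2 - 4 * d) = 0 := by 
      linear_combination (b * s + 2 * (a - 1)) * h2 - 4 * h3
    exact pow_eq_zero_iff two_ne_zero |>.1 ((mul_eq_zero.1 this).resolve_right (sub_ne_zero.2 h))
  have ha : a = 1 := by
    rw [hb] at h3
    exact sub_eq_zero.1 (pow_eq_zero_iff two_ne_zero |>.1 (by linear_combination h3))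
  have h4 : P ^ m = 1 := Units.ext (by rw [Units.val_pow_eq_pow_val, hP, e, ha, hb]; simp)
  have := Nat.le_of_dvd (Nat.pos_of_mul_pos_left (hm ▸ hpos)) (orderOf_dvd_of_pow_eq_one h4)
  have := hp.1.two_le
  nlinarith [Nat.pos_of_mul_pos_left (hm ▸ hpos)]

section
variable [Fintype F] {s d : F} (hd0 : d ≠ 0) (hd1 : d ≠ 1) (hs : s ≠ 0) (h4 : s ^ 2 ≠ 4 * d)
  (h5 : (1 + d) ^ 2 ≠ s ^ 2) (X : (Matrix (Fin 2) (Fin 2) F)ˣ) (hX : X.1 = cp s d)
include hd0 hd1 hs h4 h5 hX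

theorem good (g : symplecticGroup (Fin 2) F) {A : M2} (hA : A.det = 1)
    (h : A = 1 ∨ (A.trace ≠ 2 ∧ ¬ ∃ a : F, A = a • 1)) (hg : g.1.toBlocks₁₁ = A ∨ g.1.toBlocks₁₁ = d • A) :
    ∃ y z, IsConj (D X) y ∧ IsConj (D X) z ∧ g = y * z := by
  obtain ⟨Y, h1, h2, h3⟩ := existsY d hs hA h
  have hX1 : X.1.trace = s := by rw [hX, cp_trace]
  have hX2 : X.1.det = d := by rw [hX, cp_det]
  have key : ∀ Q : (M2)ˣ, Q.1.trace = s → Q.1.det = d → IsConj (D X) (D Q) := fun Q a b =>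
    isConj_of (by rwa [hX1, hX2]) (by rw [a, hX1]) (by rw [b, hX2])
  have hY : Y.det ≠ 0 := by rwa [h2]
  have hAY : (A * Y).det = d := by rw [det_mul, hA, one_mul, h2]
  have f1 : Fpf (un (A * Y) (by rwa [hAY])).1ᵀ :=
    fpf2 (by rw [trace_transpose, un_val, h3]) (by rw [det_transpose, un_val, hAY]) hd1 h5
  have k1 := key (un (A * Y) (by rwa [hAY])) h3 hAY
  rcases hg with hg | hg
  · obtain ⟨y, z, a, b, c⟩ := fact g f1 (Q := (un Y hY)⁻¹) (Fpf.inv (fpf2 h1 h2 hd1 h5))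
      (by rw [hg, un_val, mul_assoc]; conv_rhs => enter [2, 1]; rw [← un_val Y hY]
          rw [Units.mul_inv, mul_one])
    exact ⟨y, z, k1.trans a, ((key (tU (un Y hY)) ((trace_transpose Y).trans h1)
      ((det_transpose Y).trans h2)).trans (isConj_D_inv _)).trans b, c⟩
  · have a1 : Y.adjugate.trace = s := by rw [← h1, adjugate_fin_two]; simp [trace_fin_two, add_comm]
    have a2 : Y.adjugate.det = d := by rw [det_adjugate, h2]; simp
    obtain ⟨y, z, a, b, c⟩ := fact g f1 (Q := un Y.adjugate (by rwa [a2])) (fpf2 a1 a2 hd1 h5)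
      (by rw [hg, un_val, un_val, mul_assoc, mul_adjugate, h2]; simp)
    exact ⟨y, z, k1.trans a, (key _ a1 a2).trans b, c⟩

end

theorem params [Fintype F] (h3 : 3 ≤ Fintype.card F) : ∃ s d : F, d ≠ 0 ∧ d ≠ 1 ∧ s ≠ 0 ∧ s ^ 2 ≠ 4 * d ∧
    (1 + d) ^ 2 ≠ s ^ 2 := by
  classical
  by_cases h2 : (2 : F) = 0
  · obtain ⟨d, hd⟩ : ∃ d : F, d ∉ ({0, 1} : Finset F) := by
      by_contra! H
      have := Finset.card_le_card (show Finset.univ ⊆ ({0, 1} : Finset F) from fun x _ => H x)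
      have := Finset.card_le_two (a := (0 : F)) (b := 1)
      rw [Finset.card_univ] at *; omega
    simp only [Finset.mem_insert, Finset.mem_singleton, not_or] at hd
    refine ⟨1, d, hd.1, hd.2, one_ne_zero, fun h => one_ne_zero (α := F) (by linear_combination h + 2 * d * h2),
      fun h => hd.1 (pow_eq_zero_iff two_ne_zero |>.1 (by linear_combination h - d * h2))⟩
  have n1 : (-1 : F) ≠ 1 := fun h => h2 (by linear_combination -h)
  by_cases h5 : (5 : F) = 0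
  · refine ⟨2, -1, by simp, n1, h2, fun h => one_ne_zero (α := F) (by linear_combination 2 * h - 3 * h5), fun h => ?_⟩
    exact h2 (pow_eq_zero_iff two_ne_zero |>.1 (by linear_combination -h))
  · exact ⟨1, -1, by simp, n1, one_ne_zero, fun h => h5 (by linear_combination h), by simp⟩

theorem sp4_sq [Fintype F] (p : ℕ) [Fact p.Prime] [CharP F p] (h3 : 3 ≤ Fintype.card F) :
    ∃ x : symplecticGroup (Fin 2) F, ¬ p ∣ orderOf x ∧ ∀ g : symplecticGroup (Fin 2) F,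
      (¬ ∃ a : F, g.1 = a • 1) → ∃ y z, IsConj x y ∧ IsConj x z ∧ (g = y * z ∨ g.1 = -(y * z).1) := by
  obtain ⟨s, d, hd0, hd1, hs, h4, h5⟩ := params h3
  let X := un (cp s d) (by rwa [cp_det])
  refine ⟨D X, fun h => coprime_order p h4 X rfl (h.trans (orderOf_map_dvd Dh X)), fun g hg => ?_⟩
  obtain ⟨c, hc⟩ : ∃ c : symplecticGroup (Fin 2) F, (c * g * c⁻¹).1.toBlocks₂₁ ≠ 0 := by
    by_contra! H; exact hg (central_of g H)
  suffices H : ∃ c : symplecticGroup (Fin 2) F, ∃ y z, IsConj (D X) y ∧ IsConj (D X) z ∧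
      (c * g * c⁻¹ = y * z ∨ (c * g * c⁻¹).1 = -(y * z).1) by
    obtain ⟨c, y, z, a, b, h⟩ := H
    refine ⟨c⁻¹ * y * c⁻¹⁻¹, c⁻¹ * z * c⁻¹⁻¹, a.trans (isConj_iff.2 ⟨_, rfl⟩),
      b.trans (isConj_iff.2 ⟨_, rfl⟩), ?_⟩
    have e : c⁻¹ * y * c⁻¹⁻¹ * (c⁻¹ * z * c⁻¹⁻¹) = c⁻¹ * (y * z) * c := by group
    have e' : g = c⁻¹ * (c * g * c⁻¹) * c := by group
    rw [e]
    refine h.imp (fun h => by rw [← h]; exact e') fun h => ?_
    rw [e']
    simp only [Submonoid.coe_mul] at h ⊢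
    rw [h]; simp
  set k := c * g * c⁻¹ with hk
  have hm := k.2
  rw [← fromBlocks_toBlocks k.1] at hm
  obtain ⟨h1, -, h2⟩ := SymplecticGroup.fromBlocks_mem_iff.1 hm
  have red : ∀ T hT, U T hT * c * g * (U T hT * c)⁻¹ = U T hT * k * (U T hT)⁻¹ := fun T hT => by
    rw [hk]; group
  have G := good hd0 hd1 hs h4 h5 X rfl
  by_cases hch : ringChar F = 2
  · have h20 : (2 : F) = 0 := by
      have := ringChar.Nat.cast_ringChar (R := F); rw [hch] at this; exact_mod_cast this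
    obtain ⟨T, hT, h⟩ := solveT2 hch h1 h2 hc (δ := d ^ 2) (fun h => hd1 (sub_eq_zero.1
      (pow_eq_zero_iff two_ne_zero |>.1 (by linear_combination h + (1 - d) * h20))))
    refine ⟨U T hT * c, ?_⟩
    rw [red, ← conj_U k T hT] at *
    set k' := U T hT * k * (U T hT)⁻¹
    have ns : ∀ A : M2, A.trace ≠ 0 → A.trace ≠ 2 ∧ ¬ ∃ a : F, A = a • 1 := fun A hA => ⟨by rwa [h20], by
      rintro ⟨a, rfl⟩
      exact hA (by simp [h20])⟩
    suffices ∃ y z, IsConj (D X) y ∧ IsConj (D X) z ∧ k' = y * z by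
      obtain ⟨y, z, a, b, e⟩ := this; exact ⟨y, z, a, b, .inl e⟩
    rcases h with h | ⟨h, h' | h'⟩
    · exact G k' det_one (.inl rfl) (.inl h)
    · exact G k' h' (.inr (ns _ h)) (.inl rfl)
    · refine G k' (A := d⁻¹ • k'.1.toBlocks₁₁) (by rw [det_smul, h']; simp [hd0]) (.inr (ns _ ?_))
        (.inr (by rw [smul_smul, mul_inv_cancel₀ hd0, one_smul]))
      rw [trace_smul]; exact mul_ne_zero (inv_ne_zero hd0) h
  have h20 : (2 : F) ≠ 0 := Ring.two_ne_zero hch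
  obtain ⟨T, hT, h⟩ := solveT h1 h2 hc
  refine ⟨U T hT * c, ?_⟩
  rw [red, ← conj_U k T hT] at *
  set k' := U T hT * k * (U T hT)⁻¹
  set A := k'.1.toBlocks₁₁ with hA
  have hcase : (A = 1 ∨ (A.trace ≠ 2 ∧ ¬ ∃ a : F, A = a • 1)) ∨
      (-A = 1 ∨ ((-A).trace ≠ 2 ∧ ¬ ∃ a : F, -A = a • 1)) := by
    by_cases hsc : ∃ a : F, A = a • 1
    · obtain ⟨a, ha⟩ := hsc
      rw [ha, det_smul, det_one, mul_one, Fintype.card_fin, sq, mul_self_eq_one_iff] at h
      rcases h with rfl | rfl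
      · exact .inl (.inl (by simp [ha]))
      · exact .inr (.inl (by simp [ha]))
    · by_cases ht : A.trace = 2
      · refine .inr (.inr ⟨fun h => ?_, fun ⟨a, ha⟩ => hsc ⟨-a, by rw [neg_smul, ← ha, neg_neg]⟩⟩)
        rw [trace_neg, ht] at h
        exact pow_ne_zero 2 h20 (by linear_combination -h)
      · exact .inl (.inr ⟨ht, hsc⟩)
  rcases hcase with hh | hh
  · obtain ⟨y, z, a, b, e⟩ := G k' h hh (.inl rfl)
    exact ⟨y, z, a, b, .inl e⟩
  · obtain ⟨y, z, a, b, e⟩ := G ⟨-k'.1, SymplecticGroup.neg_mem k'.2⟩ (by rw [det_neg, h]; simp) hh (.inl rfl)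
    exact ⟨y, z, a, b, .inr (by rw [← e, neg_neg])⟩

end Cfsg.Agent.SpC
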