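import Cfsg.Agent.SpC.Basic

/-! Thompson's class square for `Sp₄(q)`. -/

set_option autoImplicit false
open Matrix

namespace Cfsg.Agent.SpC

variable {F : Type*} [Field F]

local notation "M2" => Matrix (Fin 2) (Fin 2) F

theorem fpf2 {P : M2} {s d : F} (hs : P.trace = s) (hd : P.det = d) (h1 : d ≠ 1) (h2 : (1 + d) ^ 2 ≠ s ^ 2) :
    Fpf P := fun T hT => by
  have key : ((1 - d) * ((1 + d) ^ 2 - s ^ 2)) • T = (P * (P * T * Pᵀ - T) * Pᵀ + (P * T * Pᵀ - T) -
      s • ((P * T * Pᵀ - T) * Pᵀ)) * (s • (s • (1 : M2) - Pᵀ) - (1 + d) • 1) := by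
    subst hs hd
    ext i j
    fin_cases i <;> fin_cases j <;>
      simp [Matrix.mul_apply, Fin.sum_univ_two, det_fin_two, trace_fin_two] <;> ring
  rw [hT, sub_self] at key
  simp only [Matrix.mul_zero, Matrix.zero_mul, add_zero, smul_zero, sub_self] at key
  exact (smul_eq_zero.1 key).resolve_left (mul_ne_zero (sub_ne_zero.2 h1.symm) (sub_ne_zero.2 h2))

theorem Fpf.inv {l : Type*} [Fintype l] [DecidableEq l] {P : (Matrix l l F)ˣ} (h : Fpf P.1) : Fpf (P⁻¹).1 :=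
  fun T hT => h T (by
    have i1 : (P⁻¹).1ᵀ * P.1ᵀ = 1 := (tU P).inv_mul
    conv_lhs => rw [← hT]
    rw [← mul_assoc, ← mul_assoc, Units.mul_inv, one_mul, mul_assoc, i1, mul_one])

/-- companion matrix -/
def cp (s d : F) : M2 := !![0, -d; 1, s]

theorem cp_trace (s d : F) : (cp s d).trace = s := by simp [cp, trace_fin_two]
theorem cp_det (s d : F) : (cp s d).det = d := by simp [cp, det_fin_two]

theorem sim2 {Y : M2} (h : ¬ ∃ a : F, Y = a • 1) : IsConj (cp Y.trace Y.det) Y := by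
  have key : ∀ P : M2, P.det ≠ 0 → P * cp Y.trace Y.det = Y * P → IsConj (cp Y.trace Y.det) Y :=
    fun P hP e => ⟨((isUnit_iff_isUnit_det P).2 hP.isUnit).unit, e⟩
  by_cases h1 : Y 1 0 = 0
  · by_cases h2 : Y 0 1 = 0
    · refine key !![1, Y 0 0; 1, Y 1 1] ?_ ?_
      · intro h3
        refine h ⟨Y 0 0, ?_⟩
        simp only [det_fin_two_of, one_mul, mul_one, sub_eq_zero] at h3
        ext i j; fin_cases i <;> fin_cases j <;> simp [h1, h2, h3]
      · ext i j; fin_cases i <;> fin_cases j <;>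
          simp [cp, Matrix.mul_apply, Fin.sum_univ_two, det_fin_two, trace_fin_two, h1, h2] <;> ring
    · refine key !![0, Y 0 1; 1, Y 1 1] (by simpa using h2) ?_
      ext i j; fin_cases i <;> fin_cases j <;>
          simp [cp, Matrix.mul_apply, Fin.sum_univ_two, det_fin_two, trace_fin_two] <;> ring
  · refine key !![1, Y 0 0; 0, Y 1 0] (by simpa using h1) ?_
    ext i j; fin_cases i <;> fin_cases j <;>
          simp [cp, Matrix.mul_apply, Fin.sum_univ_two, det_fin_two, trace_fin_two] <;> ring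

theorem conic [Fintype F] {τ s : F} (d : F) (hτ : τ ≠ 2) (hs : s ≠ 0) :
    ∃ y z : F, y ^ 2 + τ * y * z + z ^ 2 - s * (y + z) + d = 0 := by
  by_cases h2 : ringChar F = 2
  · have h20 : (2 : F) = 0 := by
      have := ringChar.Nat.cast_ringChar (R := F); rw [h2] at this; exact_mod_cast this
    have hτ0 : τ ≠ 0 := fun h => hτ (h.trans h20.symm)
    obtain ⟨w, hw⟩ := FiniteField.isSquare_of_char_two h2 (s ^ 2 / τ + d)
    refine ⟨s / τ + w, s / τ, ?_⟩
    have : w ^ 2 * τ = s ^ 2 + d * τ := by rw [sq, ← hw]; field_simp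
    field_simp
    linear_combination τ * this + (s ^ 2 + s * τ * w + d * τ ^ 2) * h20
  have h20 : (2 : F) ≠ 0 := Ring.two_ne_zero h2
  by_cases h3 : τ = -2
  · refine ⟨d / (2 * s), d / (2 * s), ?_⟩
    subst h3; field_simp; ring
  have h4 : 2 + τ ≠ 0 := fun h => h3 (by linear_combination h)
  have h5 : 2 - τ ≠ 0 := fun h => hτ (by linear_combination -h)
  obtain ⟨a, b, hab⟩ := FiniteField.exists_root_sum_quadratic
    (f := Polynomial.C (2 + τ) * Polynomial.X ^ 2 + Polynomial.C (-2 * s) * Polynomial.X + Polynomial.C d)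
    (g := Polynomial.C (2 - τ) * Polynomial.X ^ 2 + Polynomial.C 0 * Polynomial.X + Polynomial.C 0)
    (Polynomial.degree_quadratic h4) (Polynomial.degree_quadratic h5) (FiniteField.odd_card_of_char_ne_two h2)
  refine ⟨a + b, a - b, ?_⟩
  simp only [Polynomial.eval_add, Polynomial.eval_mul, Polynomial.eval_C, Polynomial.eval_pow,
    Polynomial.eval_X] at hab
  linear_combination hab

theorem existsY [Fintype F] {A : M2} {s : F} (d : F) (hs : s ≠ 0) (hA : A.det = 1)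
    (h : A = 1 ∨ (A.trace ≠ 2 ∧ ¬ ∃ a : F, A = a • 1)) :
    ∃ Y : M2, Y.trace = s ∧ Y.det = d ∧ (A * Y).trace = s := by
  rcases h with rfl | ⟨h1, h2⟩
  · exact ⟨cp s d, cp_trace s d, cp_det s d, by rw [one_mul, cp_trace]⟩
  obtain ⟨c, hc⟩ := sim2 h2
  obtain ⟨y, z, hyz⟩ := conic d h1 hs
  let Y : M2 := !![s - z, y; y + A.trace * z - s, z]
  refine ⟨c.1 * Y * (c⁻¹).1, ?_, ?_, ?_⟩
  · rw [trace_mul_cycle, Units.inv_mul, one_mul]; simp [Y, trace_fin_two]
  · rw [det_mul, det_mul, mul_right_comm, ← det_mul, Units.mul_inv, det_one, one_mul]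
    simp only [Y, det_fin_two_of]; linear_combination -hyz
  · rw [← mul_assoc, ← mul_assoc, ← hc.eq, trace_mul_cycle, ← mul_assoc, Units.inv_mul, one_mul, hA]
    simp [Y, cp, trace_fin_two]

theorem plucker {A B C E : M2} (h1 : Aᵀ * C = Cᵀ * A) (h3 : Aᵀ * E - Cᵀ * B = 1) (hC : C ≠ 0) :
    C.det ≠ 0 ∨ C 0 0 * A 1 1 - C 0 1 * A 1 0 ≠ 0 ∨ C 1 1 * A 0 0 - C 1 0 * A 0 1 ≠ 0 := by
  by_contra! H
  obtain ⟨k, m1, m2⟩ := H
  have e := congrFun (congrFun h1 0) 1
  have e3 := congrArg det h3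
  simp only [det_fin_two, Matrix.mul_apply, Fin.sum_univ_two, transpose_apply, Matrix.sub_apply, det_one] at e e3 k
  have m3 : C 0 1 * A 0 0 - C 0 0 * A 0 1 = 0 := by
    apply pow_eq_zero_iff (two_ne_zero) |>.1
    linear_combination (C 0 1 * A 0 0 - C 0 0 * A 0 1) * e + (C 1 1 * A 0 0 - C 1 0 * A 0 1) * m1 -
      (A 0 0 * A 1 1 - A 0 1 * A 1 0) * k
  have m4 : C 1 0 * A 1 1 - C 1 1 * A 1 0 = 0 := by linear_combination m3 - e
  have hA : A 0 0 * A 1 1 - A 0 1 * A 1 0 ≠ 0 := fun h0 => by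
    refine one_ne_zero (α := F) ?_
    linear_combination -e3 + (E 0 0 * E 1 1 - E 0 1 * E 1 0) * h0 + (B 0 0 * B 1 1 - B 0 1 * B 1 0) * k
      - (E 0 0 * B 0 1 - E 0 1 * B 0 0) * m3 - (E 0 0 * B 1 1 - E 0 1 * B 1 0) * m2
      + (E 1 0 * B 0 1 - E 1 1 * B 0 0) * m1 + (E 1 0 * B 1 1 - E 1 1 * B 1 0) * m4
  apply hC
  ext i j
  fin_cases i <;> fin_cases j <;> refine mul_right_cancel₀ hA ?_ <;>
    simp only [Fin.zero_eta, Fin.mk_one, Fin.isValue, Matrix.zero_apply]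
  · linear_combination A 0 0 * m1 + A 1 0 * m3
  · linear_combination A 0 1 * m1 + A 1 1 * m3
  · linear_combination A 0 0 * m4 + A 1 0 * m2
  · linear_combination A 0 1 * m4 + A 1 1 * m2

theorem sy (x y z : F) : (!![x, y; y, z] : M2)ᵀ = !![x, y; y, z] := by
  ext i j; fin_cases i <;> fin_cases j <;> rfl

theorem add_T (A C : M2) (x y z : F) : A + !![x, y; y, z] * C =
    !![A 0 0 + (x * C 0 0 + y * C 1 0), A 0 1 + (x * C 0 1 + y * C 1 1);
      A 1 0 + (y * C 0 0 + z * C 1 0), A 1 1 + (y * C 0 1 + z * C 1 1)] := by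
  ext i j; fin_cases i <;> fin_cases j <;> simp [Matrix.mul_apply, Fin.sum_univ_two, -cons_mul]

theorem det_T {A C : M2} (h1 : Aᵀ * C = Cᵀ * A) (x y z : F) : (A + !![x, y; y, z] * C).det =
    A.det + x * (C 0 0 * A 1 1 - C 0 1 * A 1 0) + z * (C 1 1 * A 0 0 - C 1 0 * A 0 1) +
      2 * y * (C 0 1 * A 0 0 - C 0 0 * A 0 1) + C.det * (x * z - y ^ 2) := by
  have e := congrFun (congrFun h1 0) 1
  simp only [Matrix.mul_apply, Fin.sum_univ_two, transpose_apply] at e
  rw [add_T, det_fin_two_of, det_fin_two, det_fin_two]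
  linear_combination -y * e

theorem trace_T (A C : M2) (x y z : F) : (A + !![x, y; y, z] * C).trace =
    A.trace + x * C 0 0 + y * (C 0 1 + C 1 0) + z * C 1 1 := by
  rw [add_T, trace_fin_two_of, trace_fin_two]; ring

theorem solveT {A B C E : M2} (h1 : Aᵀ * C = Cᵀ * A) (h3 : Aᵀ * E - Cᵀ * B = 1) (hC : C ≠ 0) :
    ∃ T : M2, Tᵀ = T ∧ (A + T * C).det = 1 := by
  have := plucker h1 h3 hC
  by_cases m1 : C 0 0 * A 1 1 - C 0 1 * A 1 0 = 0
  · by_cases m2 : C 1 1 * A 0 0 - C 1 0 * A 0 1 = 0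
    · have k : C.det ≠ 0 := by simpa [m1, m2] using this
      refine ⟨_, sy ((1 - A.det) / C.det) 0 1, ?_⟩
      rw [det_T h1, m1, m2]; field_simp; ring
    · refine ⟨_, sy 0 0 ((1 - A.det) / (C 1 1 * A 0 0 - C 1 0 * A 0 1)), ?_⟩
      rw [det_T h1, div_mul_cancel₀ _ m2]; ring
  · refine ⟨_, sy ((1 - A.det) / (C 0 0 * A 1 1 - C 0 1 * A 1 0)) 0 0, ?_⟩
    rw [det_T h1, div_mul_cancel₀ _ m1]; ring

theorem solveT2 [Fintype F] (h2 : ringChar F = 2) {A B C E : M2} (h1 : Aᵀ * C = Cᵀ * A)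
    (h3 : Aᵀ * E - Cᵀ * B = 1) (hC : C ≠ 0) {δ : F} (hδ : δ ≠ 1) :
    ∃ T : M2, Tᵀ = T ∧ (A + T * C = 1 ∨ ((A + T * C).trace ≠ 0 ∧
      ((A + T * C).det = 1 ∨ (A + T * C).det = δ))) := by
  have h20 : (2 : F) = 0 := by
    have := ringChar.Nat.cast_ringChar (R := F); rw [h2] at this; exact_mod_cast this
  have pl := plucker h1 h3 hC
  by_contra! H
  have H1 : ∀ x y z : F, A + !![x, y; y, z] * C ≠ 1 := fun x y z => (H _ (sy x y z)).1
  set m1 := C 0 0 * A 1 1 - C 0 1 * A 1 0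
  set m2 := C 1 1 * A 0 0 - C 1 0 * A 0 1
  have H2 : ∀ x y z ε : F, ε = 1 ∨ ε = δ → A.det + x * m1 + z * m2 + C.det * (x * z - y ^ 2) = ε →
      A.trace + x * C 0 0 + y * (C 0 1 + C 1 0) + z * C 1 1 = 0 := fun x y z ε hε e => by
    by_contra h
    have := (H _ (sy x y z)).2 (by rwa [trace_T])
    rw [det_T h1, h20, zero_mul, zero_mul, add_zero, e] at this
    tauto
  have hδ' : 1 - δ ≠ 0 := sub_ne_zero.2 hδ.symm
  by_cases k : C.det = 0
  · simp only [k, zero_mul, add_zero] at H2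
    have fin : C 0 0 = 0 → C 1 1 = 0 → C 0 1 + C 1 0 = 0 → False := fun a b c => hC (by
      rw [det_fin_two, a] at k
      have : C 0 1 = 0 := pow_eq_zero_iff (two_ne_zero) |>.1 (by linear_combination C 0 1 * c + k)
      rw [this, zero_add] at c
      ext i j; fin_cases i <;> fin_cases j <;> simp [*])
    rcases pl.resolve_left (not_not.2 k) with m | m
    · have e : ∀ y z ε, ε = 1 ∨ ε = δ → _ := fun y z ε hε =>
        H2 ((ε - A.det - z * m2) / m1) y z ε hε (by field_simp; ring)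
      have c0 : C 0 0 = 0 := by
        refine mul_left_cancel₀ (div_ne_zero hδ' m) ?_
        linear_combination e 0 0 1 (.inl rfl) - e 0 0 δ (.inr rfl)
      exact fin c0 (by linear_combination e 0 1 1 (.inl rfl) - e 0 0 1 (.inl rfl) + m2 / m1 * c0)
        (by linear_combination e 1 0 1 (.inl rfl) - e 0 0 1 (.inl rfl))
    · have e : ∀ y x ε, ε = 1 ∨ ε = δ → _ := fun y x ε hε =>
        H2 x y ((ε - A.det - x * m1) / m2) ε hε (by field_simp; ring)
      have c0 : C 1 1 = 0 := by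
        refine mul_left_cancel₀ (div_ne_zero hδ' m) ?_
        linear_combination e 0 0 1 (.inl rfl) - e 0 0 δ (.inr rfl)
      exact fin (by linear_combination e 0 1 1 (.inl rfl) - e 0 0 1 (.inl rfl) + m1 / m2 * c0) c0
        (by linear_combination e 1 0 1 (.inl rfl) - e 0 0 1 (.inl rfl))
  · have e : ∀ x z : F, ∃ y, A.det + x * m1 + z * m2 + C.det * (x * z - y ^ 2) = 1 ∧
        A.trace + x * C 0 0 + y * (C 0 1 + C 1 0) + z * C 1 1 = 0 := fun x z => by
      obtain ⟨y, hy⟩ := FiniteField.isSquare_of_char_two h2 ((A.det + x * m1 + z * m2 - 1) / C.det + x * z)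
      have : A.det + x * m1 + z * m2 + C.det * (x * z - y ^ 2) = 1 := by rw [sq, ← hy]; field_simp; ring
      exact ⟨y, this, H2 x y z 1 (.inl rfl) this⟩
    obtain ⟨y0, a0, b0⟩ := e 0 0
    obtain ⟨y1, a1, b1⟩ := e 1 0
    obtain ⟨y2, a2, b2⟩ := e 0 1
    obtain ⟨y3, a3, b3⟩ := e 1 1
    by_cases γ : C 0 1 + C 1 0 = 0
    · rw [γ] at b0 b1 b2
      have t0 : A 0 0 + A 1 1 = 0 := by rw [← trace_fin_two]; linear_combination b0
      have c0 : C 0 0 = 0 := by linear_combination b1 - b0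
      have c1 : C 1 1 = 0 := by linear_combination b2 - b0
      have c2 : C 1 0 = C 0 1 := by linear_combination γ - C 0 1 * h20
      have c3 : C 0 1 ≠ 0 := fun h => k (by rw [det_fin_two, c0, h]; simp)
      refine H1 (-A 0 1 / C 0 1) ((1 - A 0 0) / C 0 1) (-A 1 0 / C 0 1) ?_
      rw [add_T]
      ext i j
      fin_cases i <;> fin_cases j <;> simp [c0, c1, c2, c3]
      linear_combination t0 - A 0 0 * h20
    · have hy : y0 + y1 + y2 + y3 = 0 := mul_right_cancel₀ γ (by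
        linear_combination b0 + b1 + b2 + b3 - (2 * A.trace + C 0 0 + C 1 1) * h20)
      refine k ?_
      linear_combination a0 + a1 + a2 + a3 + C.det * (y0 + y1 + y2 + y3) * hy - (2 * A.det + m1 + m2 - 2 +
        C.det * (y0 * y1 + y0 * y2 + y0 * y3 + y1 * y2 + y1 * y3 + y2 * y3)) * h20

end Cfsg.Agent.SpC
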